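import Groth.Agent.AbVar.K132.GreenAlg
import Groth.Agent.VBPn.K698.Basic
import Groth.Agent.S18223
import Groth.Agent.Sga67.TensorOps
import Groth.Agent.Ega2.QCohLocal

/-!
# Green's vanishing theorem: the pairing with functionals

For `Er` an `r`-th exterior power of `E` and functionals `l_1, …, l_r : E ⟶ O_X`:
* `pr φ l U : Sec Er U → Γ(X, U)`, the pairing with `l_1 ∧ … ∧ l_r`;
* `exists_green`: the morphism `Er ⊗ G ⟶ G` induced by the pairing;
* `exists_coord`: coordinates of the kernel of the evaluation map near a point.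
-/

set_option autoImplicit false

universe u

open CategoryTheory CategoryTheory.Limits AlgebraicGeometry Opposite TopologicalSpace
open scoped TensorProduct
open Groth.Agent.Sga67.Sec Groth.Agent.Sga67.LocBasis Groth.Agent.Sga67.ExtSheaf
open Groth.Agent.Sga67.TensorOps

namespace K132.GreenSheaf

variable {X : Scheme.{u}}

/-- Sections of the structure module as functions. -/
noncomputable def oL (U : X.Opens) : Sec (Coh.structureModule X) U →ₗ[Γ(X, U)] Γ(X, U) where
  toFun := toO
  map_add' := fun _ _ => rfl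
  map_smul' := fun _ _ => rfl

theorem oL_apply (U : X.Opens) (s : Sec (Coh.structureModule X) U) : oL U s = toO s := rfl

theorem oL_injective (U : X.Opens) : Function.Injective (oL (X := X) U) := fun _ _ h => h

section Pairing

variable {r : ℕ} {E Er : X.Modules} (φ : Phi r E Er) (l : Fin r → (E ⟶ Coh.structureModule X))

/-- The pairing with `l_1 ∧ … ∧ l_r`. -/
noncomputable def pr (U : X.affineOpens) : Sec Er U.1 →ₗ[Γ(X, U.1)] Γ(X, U.1) :=
  (exteriorPower.pairingDual Γ(X, U.1) (Sec E U.1) r
    (exteriorPower.ιMulti Γ(X, U.1) r (fun i => oL U.1 ∘ₗ appS (l i) U.1))) ∘ₗ (φ U).toLinearMap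

theorem pr_symm (U : X.affineOpens) (e : Fin r → Sec E U.1) :
    pr φ l U ((φ U).symm (exteriorPower.ιMulti _ r e)) =
      Matrix.det (Matrix.of fun i j => oL U.1 (appS (l j) U.1 (e i))) := by
  rw [pr, LinearMap.comp_apply, LinearEquiv.coe_coe, LinearEquiv.apply_symm_apply,
    exteriorPower.pairingDual_ιMulti_ιMulti]
  rfl

variable {φ} in
theorem pr_res (hφ : PhiComp φ) (U V : X.affineOpens) (h : V.1 ≤ U.1) (w : Sec Er U.1) :
    pr φ l V (res Er h w) = resO X h (pr φ l U w) := by
  refine phi_induction φ U (C := fun w => pr φ l V (res Er h w) = resO X h (pr φ l U w)) ?_ ?_ ?_ ?_ w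
  · simp only [map_zero]
  · intro x y hx hy
    rw [map_add, map_add, hx, hy, map_add, map_add]
  · intro a x hx
    rw [res_smul, map_smul, map_smul, hx, smul_eq_mul, smul_eq_mul, map_mul]
  · intro e
    rw [hφ U V h e, pr_symm, pr_symm, RingHom.map_det]
    congr 1
    ext i j
    simp only [Matrix.of_apply, RingHom.mapMatrix_apply, Matrix.map_apply]
    rw [appS_res]
    rfl

variable {φ} in
/-- The morphism `Er ⊗ G ⟶ G` given by the pairing with `l_1 ∧ … ∧ l_r`. -/
theorem exists_green (hφ : PhiComp φ) (G : X.Modules) :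
    ∃ f : CohB1.tensorMod Er G ⟶ G, ∀ (U : X.affineOpens) (w : Sec Er U.1) (g : Sec G U.1),
      appS f U.1 (tau Er G U.1 (w ⊗ₜ[Γ(X, U.1)] g)) = pr φ l U w • g := by
  obtain ⟨f, hf⟩ := exists_tensor_hom (affineBasis X) Er G G
    (fun U => TensorProduct.lift ((LinearMap.lsmul Γ(X, U.1) (Sec G U.1)).comp (pr φ l U)))
    (by
      intro U V h w g
      rw [TensorProduct.lift.tmul, TensorProduct.lift.tmul, LinearMap.comp_apply, LinearMap.comp_apply,
        LinearMap.lsmul_apply, LinearMap.lsmul_apply, pr_res l hφ U V h w, res_smul])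
  exact ⟨f, fun U w g => by rw [hf U, TensorProduct.lift.tmul, LinearMap.comp_apply, LinearMap.lsmul_apply]⟩

end Pairing

section Coord

open Groth.Agent.S18223 (Fr inc prj sum_prj_inc inc_prj_self inc_prj_ne)

/-- The coordinates of a section of the free module. -/
noncomputable def crd (J : Type u) (U : X.Opens) : Sec (Fr X J) U →ₗ[Γ(X, U)] (J → Γ(X, U)) :=
  LinearMap.pi fun j => oL U ∘ₗ appS (prj J j) U

/-- The coordinate vectors. -/
noncomputable def bas (X : Scheme.{u}) (J : Type u) (j : J) (U : X.Opens) : Sec (Fr X J) U :=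
  appS (inc J j) U (one X U)

theorem res_bas (J : Type u) (j : J) {U V : X.Opens} (h : V ≤ U) : res _ h (bas X J j U) = bas X J j V := by
  rw [bas, ← appS_res, res_one]
  rfl

theorem sum_crd (J : Type u) [Fintype J] (U : X.Opens) (s : Sec (Fr X J) U) :
    s = ∑ j, crd J U s j • bas X J j U := by
  have h1 : s = appS (∑ j, prj (X := X) J j ≫ inc J j) U s := by
    rw [sum_prj_inc]
    rfl
  rw [appS_sum] at h1
  refine h1.trans (Finset.sum_congr rfl fun j _ => ?_)
  rw [appS_comp, bas, ← map_smul]
  congr 1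
  exact (toO_smul_one _).symm

theorem crd_bas (J : Type u) [DecidableEq J] (i j : J) (U : X.Opens) :
    crd J U (bas X J i U) j = if i = j then 1 else 0 := by
  change toO (appS (prj J j) U (appS (inc J i) U (one X U))) = _
  rw [← appS_comp]
  split_ifs with h
  · subst h
    rw [inc_prj_self]
    rfl
  · rw [inc_prj_ne J h]
    rfl

theorem crd_comb (J : Type u) [Fintype J] (U : X.Opens) (a : J → Γ(X, U)) :
    crd J U (∑ j, a j • bas X J j U) = a := by
  classical
  rw [map_sum]
  funext i
  rw [Finset.sum_apply, Finset.sum_eq_single i]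
  · rw [map_smul, Pi.smul_apply, crd_bas, if_pos rfl, smul_eq_mul, mul_one]
  · intro j _ hj
    rw [map_smul, Pi.smul_apply, crd_bas, if_neg hj, smul_zero]
  · intro h
    exact (h (Finset.mem_univ _)).elim

variable {J : Type u} [Fintype J] {L : X.Modules} (ev : Fr X J ⟶ L)

/-- Coordinates of the kernel of the evaluation map. -/
noncomputable def kcrd (U : X.Opens) : Sec (kernel ev) U →ₗ[Γ(X, U)] (J → Γ(X, U)) :=
  crd J U ∘ₗ appS (kernel.ι ev) U

theorem kcrd_rel {U : X.Opens} {γ : Sec L U} (hγ : IsLocBasis (fun _ : Fin 1 => γ)) (v : J → Γ(X, U))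
    (hv : ∀ j, appS ev U (bas X J j U) = v j • γ) (m : Sec (kernel ev) U) :
    ∑ j, v j * kcrd ev U m j = 0 := by
  have h1 : appS ev U (appS (kernel.ι ev) U m) = 0 := by
    rw [← appS_comp, kernel.condition, appS_zero]
  rw [sum_crd J U (appS (kernel.ι ev) U m), map_sum] at h1
  have h2 : comb (fun _ : Fin 1 => γ) le_rfl (fun _ => ∑ j, v j * kcrd ev U m j) = 0 := by
    rw [comb_apply, Finset.sum_const, Finset.card_univ, Fintype.card_fin, _root_.one_smul, res_self, Finset.sum_smul,
      ← h1]
    refine Finset.sum_congr rfl fun j _ => ?_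
    rw [map_smul, hv, smul_smul, mul_comm]
    rfl
  exact congr_fun ((hγ U le_rfl).1 (h2.trans (map_zero _).symm)) 0

/-- The coordinates of the kernel split if the evaluation map is surjective on sections. -/
theorem exists_retraction {U : X.Opens} {γ : Sec L U} (hγ : IsLocBasis (fun _ : Fin 1 => γ)) (v : J → Γ(X, U))
    (hv : ∀ j, appS ev U (bas X J j U) = v j • γ) (a : J → Γ(X, U)) (ha : ∑ j, v j * a j = 1) :
    ∃ ρ : (J → Γ(X, U)) →ₗ[Γ(X, U)] Sec (kernel ev) U, ∀ m, ρ (kcrd ev U m) = m := by
  have hS : (ShortComplex.mk (kernel.ι ev) ev (kernel.condition ev)).Exact := ShortComplex.exact_kernel ev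
  have hinj : Function.Injective (appS (kernel.ι ev) U) := injective_of_mono (kernel.ι ev) U
  let q : (J → Γ(X, U)) →ₗ[Γ(X, U)] Sec (Fr X J) U :=
    { toFun := fun y => ∑ j, (y j - (∑ i, v i * y i) * a j) • bas X J j U
      map_add' := fun y z => by
        rw [← Finset.sum_add_distrib]
        refine Finset.sum_congr rfl fun j _ => ?_
        rw [← add_smul]
        congr 1
        simp only [Pi.add_apply, mul_add, Finset.sum_add_distrib]
        ring
      map_smul' := fun c y => by
        rw [RingHom.id_apply, Finset.smul_sum]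
        refine Finset.sum_congr rfl fun j _ => ?_
        rw [smul_smul]
        congr 1
        have h1 : ∑ i, v i * (c • y) i = c * ∑ i, v i * y i := by
          rw [Finset.mul_sum]
          refine Finset.sum_congr rfl fun i _ => ?_
          rw [Pi.smul_apply, smul_eq_mul]
          ring
        rw [h1, Pi.smul_apply, smul_eq_mul]
        ring }
  have hq : ∀ y, q y ∈ LinearMap.range (appS (kernel.ι ev) U) := by
    intro y
    have h1 : appS ev U (q y) = 0 := by
      change appS ev U (∑ j, (y j - (∑ i, v i * y i) * a j) • bas X J j U) = 0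
      rw [map_sum]
      have h2 : ∀ j, appS ev U ((y j - (∑ i, v i * y i) * a j) • bas X J j U) =
          (v j * y j - (∑ i, v i * y i) * (v j * a j)) • γ := by
        intro j
        rw [map_smul, hv, smul_smul]
        congr 1
        ring
      rw [Finset.sum_congr rfl fun j _ => h2 j, ← Finset.sum_smul, Finset.sum_sub_distrib, ← Finset.mul_sum, ha,
        mul_one, sub_self, zero_smul]
    exact exists_of_appS_eq_zero hS (q y) h1
  refine ⟨(LinearEquiv.ofInjective (appS (kernel.ι ev) U) hinj).symm.toLinearMap ∘ₗ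
    q.codRestrict (LinearMap.range (appS (kernel.ι ev) U)) hq, fun m => ?_⟩
  rw [LinearMap.comp_apply, LinearEquiv.coe_coe, LinearEquiv.symm_apply_eq]
  apply Subtype.ext
  change ∑ j, (kcrd ev U m j - (∑ i, v i * kcrd ev U m i) * a j) • bas X J j U = appS (kernel.ι ev) U m
  rw [kcrd_rel ev hγ v hv m]
  refine Eq.trans ?_ (sum_crd J U (appS (kernel.ι ev) U m)).symm
  refine Finset.sum_congr rfl fun j _ => ?_
  rw [zero_mul, sub_zero]
  rfl

end Coord

end K132.GreenSheaf
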