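import Groth.Agent.ShStab.K847.HilbBasic
import Groth.Agent.Dcoh.FinLocFree
import Groth.Agent.Ega2.QCohLocal
import Groth.Agent.VarietyA.TwistExist
import Groth.Agent.Models.TrivGeom
import Groth.Agent.PerfA.CohSerre
import Groth.Agent.Krr.H487.KerRank
import Groth.Agent.CycB.CohProp
import Groth.Agent.AbVar.K132.GreenSheaf

/-!
# The Hilbert polynomial of the kernel of the evaluation map

`X` proper over a field, `L` invertible, `P` the Hilbert polynomial of `O_X`:
* `hilb_free`: the Hilbert polynomial of `O_X^n` is `n P`;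
* `hilb_kernel`: the Hilbert polynomial of `ker (O_X^J → L)` is `|J| P - P(X + 1)`;
* `rank_kernel`: `ker (O_X^J → L)` is finite locally free of rank `|J| - 1`.
-/

set_option autoImplicit false
universe u
open CategoryTheory CategoryTheory.Limits AlgebraicGeometry Polynomial

namespace K132.GreenHilb

open Groth.Agent Groth.Agent.Fga.PicMon K847.HilbBasic StabCat
open Groth.Agent.S18223 (Fr)

section rank

variable {X : Scheme.{u}}

/-- Reindexing of the free module. -/
theorem nonempty_iso_freeMod (J : Type u) [Fintype J] {n : ℕ} (hn : Fintype.card J = n) :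
    Nonempty (Fr X J ≅ FlatMod.freeMod X n) := by
  let e : J ≃ Fin n := Fintype.equivFinOfCardEq hn
  exact ⟨Sigma.whiskerEquiv (f := fun _ : J => Coh.structureModule X)
    (g := fun _ : Fin n => Coh.structureModule X) e (fun _ => Iso.refl _)⟩

theorem isInvertible_structureModule : PicF.IsInvertible (Coh.structureModule X) :=
  Fdesc.LocGen.isInvertible_structureModule

/-- The kernel of an epimorphism from a free module onto an invertible module. -/
theorem rank_kernel {L : X.Modules} (hL : PicF.IsInvertible L) (J : Type u) [Fintype J]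
    (ev : Fr X J ⟶ L) [Epi ev] {ρ : ℕ} (hρ : Fintype.card J = ρ + 1) :
    FlatMod.IsFinLocFreeOfRank ρ (kernel ev) := by
  refine Krr.H487.KerRank.isFinLocFreeOfRank_kernel ev (m := 1) ?_
    (Ega2.QCohLocal.isFinLocFreeOfRank_one_iff.2 hL)
  obtain ⟨e⟩ := nonempty_iso_freeMod (X := X) J hρ
  intro x
  exact ⟨⊤, trivial, ⟨(Scheme.Modules.restrictFunctor (⊤ : X.Opens).ι).mapIso e ≪≫
    (Dcoh.FinLocFree.restrictFree _ (ρ + 1)).symm⟩⟩

theorem isCoh_fr (J : Type u) [Fintype J] : Coh.IsCoh (Fr X J) := by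
  obtain ⟨e⟩ := nonempty_iso_freeMod (X := X) J rfl
  exact PerfA.CohSerre.isCoh_of_iso e.symm (PerfA.CohSerre.isCoh_freeMod _)

theorem isCoh_ker [IsLocallyNoetherian X] {L : X.Modules} (hL : PicF.IsInvertible L) (J : Type u) [Fintype J]
    (ev : Fr X J ⟶ L) : Coh.IsCoh (kernel ev) :=
  CycB.CohProp.isCoh_kernel ev (isCoh_fr J) (Models.TrivGeom.isCoh_of_isInvertible hL)

end rank

variable (k : Type u) [Field k] {X : Scheme.{u}} [X.Over (Spec (CommRingCat.of k))]
  [IsProper (X ↘ Spec (CommRingCat.of k))]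

theorem hilb_free_add {L : X.Modules} (hL : PicF.IsInvertible L) (m n : ℕ) {P Q R : ℚ[X]}
    (hP : ShStab.IsHilbPoly k X L (FlatMod.freeMod X m) P) (hQ : ShStab.IsHilbPoly k X L (FlatMod.freeMod X n) Q)
    (hR : ShStab.IsHilbPoly k X L (FlatMod.freeMod X (m + n)) R) : R = P + Q := by
  obtain ⟨e⟩ := Dcoh.FinLocFree.nonempty_biprod_freeMod_iso X m n
  let S : ShortComplex X.Modules := ShortComplex.mk
    (biprod.inl : FlatMod.freeMod X m ⟶ FlatMod.freeMod X m ⊞ FlatMod.freeMod X n) biprod.snd (by simp)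
  have hS : S.ShortExact :=
    (ShortComplex.Splitting.ofHasBinaryBiproduct (FlatMod.freeMod X m) (FlatMod.freeMod X n)).shortExact
  exact hilbPoly_add k hL S hS (PerfA.CohSerre.isCoh_freeMod m)
    (PerfA.CohSerre.isCoh_of_iso e.symm (PerfA.CohSerre.isCoh_freeMod (m + n))) (PerfA.CohSerre.isCoh_freeMod n)
    hP (isHilbPoly_iso k e.symm hR) hQ

/-- The Hilbert polynomial of a free module. -/
theorem hilb_free {L : X.Modules} (hL : PicF.IsInvertible L) {P : ℚ[X]}
    (hP : ShStab.IsHilbPoly k X L (Coh.structureModule X) P) (n : ℕ) {Q : ℚ[X]}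
    (hQ : ShStab.IsHilbPoly k X L (FlatMod.freeMod X n) Q) : Q = C (n : ℚ) * P := by
  induction n generalizing Q with
  | zero =>
    have h := hilb_free_add k hL 0 0 hQ hQ hQ
    have h0 : Q = 0 := by simpa using h
    rw [h0]
    simp
  | succ n ih =>
    obtain ⟨R, hR⟩ := exists_hilbPoly k hL (PerfA.CohSerre.isCoh_freeMod (X := X) n)
    have h1 : ShStab.IsHilbPoly k X L (FlatMod.freeMod X 1) P :=
      isHilbPoly_iso k (Limits.coproductUniqueIso (fun _ : Fin 1 => Coh.structureModule X)).symm hP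
    rw [hilb_free_add k hL n 1 hR h1 hQ, ih hR]
    push_cast
    rw [C_add, C_1]
    ring

/-- The Hilbert polynomial of the kernel of the evaluation map. -/
theorem hilb_kernel {L : X.Modules} (hL : PicF.IsInvertible L) {P : ℚ[X]}
    (hP : ShStab.IsHilbPoly k X L (Coh.structureModule X) P) (J : Type u) [Fintype J]
    (ev : Fr X J ⟶ L) [Epi ev] {Q : ℚ[X]} (hQ : ShStab.IsHilbPoly k X L (kernel ev) Q) {ρ : ℕ}
    (hρ : Fintype.card J = ρ + 1) :
    Q = C ((ρ : ℚ) + 1) * P - P.comp (Polynomial.X + C 1) := by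
  obtain ⟨e⟩ := nonempty_iso_freeMod (X := X) J hρ
  have hFc : Coh.IsCoh (Fr X J) := isCoh_fr J
  have hLc : Coh.IsCoh L := Models.TrivGeom.isCoh_of_isInvertible hL
  have hN := VarietyA.TwistExist.isNoetherian k X
  have hkc : Coh.IsCoh (kernel ev) := isCoh_ker hL J ev
  obtain ⟨R, hR⟩ := exists_hilbPoly k hL hFc
  have h1 : R = C (((ρ + 1 : ℕ) : ℚ)) * P := hilb_free k hL hP (ρ + 1) (isHilbPoly_iso k e hR)
  have h2 := isHilbPoly_tensorPow k hP 1
  have h3 : ShStab.IsHilbPoly k X L L (P.comp (Polynomial.X + C (1 : ℚ))) := by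
    have e1 : Nonempty (CohB1.tensorMod (CohB1.tensorPow L 1) (Coh.structureModule X) ≅ L) := by
      rw [← mc_eq_iff, mc_tensor, mc_tensorPow, pow_one, mc_one, mul_one]
    obtain ⟨e1⟩ := e1
    have := isHilbPoly_iso k e1 h2
    simpa using this
  have hS : (ShortComplex.mk (kernel.ι ev) ev (kernel.condition ev)).ShortExact :=
    { exact := ShortComplex.exact_kernel ev }
  have h4 := hilbPoly_add k hL _ hS hkc hFc hLc hQ hR h3
  rw [h1] at h4
  push_cast at h4
  rw [h4]
  ring

end K132.GreenHilb
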