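import Groth.Agent.AbVar.K132.GreenVanish
import Groth.Agent.CurvesB.HZero

/-!
# Green's vanishing theorem: the final form

* `ind_of_inj`: the sections `ev (e_j)` are linearly independent;
* `card_eq`: `h^0(L) = |J|` if the evaluation map is bijective on sections and `h^0(O) = 1`;
* `vanish_of_finrank`: `H^0(X, Λ^r (ker ev) ⊗ G) = 0` if `h^0(G) ≤ r`.
-/

set_option autoImplicit false

universe u

open CategoryTheory CategoryTheory.Limits AlgebraicGeometry Opposite TopologicalSpace
open Groth.Agent.Sga67.Sec Groth.Agent.Sga67.LocBasis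
open Groth.Agent.CurvesB
open Groth.Agent.S18223 (Fr inc prj)

namespace K132.GreenMain

open K132.GreenSheaf K132.GreenVanish

variable (k : Type u) [Field k] {X : Scheme.{u}} [X.Over (Spec (CommRingCat.of k))]

theorem gl_injective [Nonempty X] : Function.Injective (HZero.gl k X) := by
  have : Nontrivial Γ(X, ⊤) := by
    obtain ⟨x⟩ : Nonempty X := inferInstance
    exact (X.presheaf.germ ⊤ x trivial).hom.domain_nontrivial
  exact (HZero.gl k X).injective

variable {k} in
theorem ind_of_inj [Nonempty X] {L : X.Modules} {J : Type u} [Fintype J] (ev : Fr X J ⟶ L)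
    (hinj : Function.Injective (appS ev (⊤ : X.Opens))) (c : J → k)
    (hc : ∑ j, HZero.gl k X (c j) • appS ev ⊤ (bas X J j ⊤) = 0) : c = 0 := by
  have h1 : appS ev ⊤ (∑ j, HZero.gl k X (c j) • bas X J j ⊤) = 0 := by
    rw [map_sum, ← hc]
    exact Finset.sum_congr rfl fun j _ => map_smul _ _ _
  have h2 : ∑ j, HZero.gl k X (c j) • bas X J j ⊤ = 0 := hinj (h1.trans (map_zero _).symm)
  have h3 := crd_comb (X := X) J ⊤ (fun j => HZero.gl k X (c j))
  rw [h2, map_zero] at h3
  funext j
  have h4 : HZero.gl k X (c j) = 0 := (congr_fun h3 j).symm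
  exact (map_eq_zero_iff _ (gl_injective k)).1 h4

/-- Global sections, with the type `Sec`. -/
noncomputable def eqS (G : X.Modules) : Coh.HH X G 0 ≃+ Sec G (⊤ : X.Opens) := HZero.equivAdd G

theorem eqS_smul (G : X.Modules) (t : k) (x : Coh.HH X G 0) : eqS G (t • x) = HZero.gl k X t • eqS G x :=
  HZero.equivAdd_smul_over G t x

/-- A spanning family of sections. -/
theorem exists_span {G : X.Modules} [Module.Finite k (Coh.HH X G 0)] {r : ℕ}
    (hr : Module.finrank k (Coh.HH X G 0) ≤ r) :
    ∃ b : Fin r → Sec G ⊤, ∀ s : Sec G ⊤, ∃ c : Fin r → k, s = ∑ i, HZero.gl k X (c i) • b i := by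
  let f : (Fin r → k) →ₗ[k] Coh.HH X G 0 :=
    (Module.finBasis k (Coh.HH X G 0)).equivFun.symm.toLinearMap ∘ₗ LinearMap.funLeft k k (Fin.castLE hr)
  have hf : Function.Surjective f :=
    (Module.finBasis k (Coh.HH X G 0)).equivFun.symm.surjective.comp
      (LinearMap.funLeft_surjective_of_injective k k _ (Fin.castLE_injective hr))
  refine ⟨fun i => eqS G (f (Pi.single i 1)), fun s => ?_⟩
  obtain ⟨c, hc⟩ := hf ((eqS G).symm s)
  refine ⟨c, ?_⟩
  have h1 : c = ∑ i, c i • (Pi.single i (1 : k) : Fin r → k) := by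
    rw [← pi_eq_sum_univ' c] 
  have h2 : s = eqS G (f c) := by
    rw [hc, AddEquiv.apply_symm_apply]
  rw [h2]
  conv_lhs => rw [h1, map_sum, map_sum]
  refine Finset.sum_congr rfl fun i _ => ?_
  rw [map_smul]
  exact eqS_smul k G (c i) _

variable {k} in
/-- `h^0(L) = |J|`. -/
theorem card_eq [Nonempty X] (h0 : Module.finrank k (Coh.HH X (Coh.structureModule X) 0) = 1) {L : X.Modules}
    {J : Type u} [Fintype J] (ev : Fr X J ⟶ L) (hbij : Function.Bijective (appS ev (⊤ : X.Opens))) :
    Module.finrank k (Coh.HH X L 0) = Fintype.card J := by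
  let v : J → Coh.HH X L 0 := fun j => (eqS L).symm (appS ev ⊤ (bas X J j ⊤))
  have hv : ∀ c : J → k, eqS L (∑ j, c j • v j) = ∑ j, HZero.gl k X (c j) • appS ev ⊤ (bas X J j ⊤) := by
    intro c
    rw [map_sum]
    refine Finset.sum_congr rfl fun j _ => ?_
    refine (eqS_smul k L (c j) (v j)).trans ?_
    rw [AddEquiv.apply_symm_apply]
  have hli : LinearIndependent k v := by
    rw [Fintype.linearIndependent_iff]
    intro c hc
    have h1 := hv c
    rw [hc, map_zero] at h1
    exact fun j => congr_fun (ind_of_inj ev hbij.1 c h1.symm) j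
  have hsp : ⊤ ≤ Submodule.span k (Set.range v) := by
    intro y _
    obtain ⟨s, hs⟩ := hbij.2 (eqS L y)
    choose c hc using fun j => HZero.exists_const k h0 (crd J ⊤ s j)
    have h1 : y = ∑ j, c j • v j := by
      apply (eqS L).injective
      rw [hv, ← hs]
      conv_lhs => rw [sum_crd J ⊤ s, map_sum]
      refine Finset.sum_congr rfl fun j _ => ?_
      rw [map_smul, hc]
    rw [h1]
    exact Submodule.sum_mem _ fun j _ => Submodule.smul_mem _ _ (Submodule.subset_span ⟨j, rfl⟩)
  rw [Module.finrank_eq_card_basis (Module.Basis.mk hli hsp)]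

variable {k} in
/-- Green's vanishing theorem. -/
theorem vanish_of_finrank [IsAlgClosed k] [IsIntegral X] [LocallyOfFiniteType (X ↘ Spec (CommRingCat.of k))]
    {L : X.Modules} (hL : PicF.IsInvertible L) {J : Type u} [Fintype J] (ev : Fr X J ⟶ L) [Epi ev]
    (hinj : Function.Injective (appS ev (⊤ : X.Opens)))
    {r : ℕ} {Er : X.Modules} (hEr : ExtPow.IsExtPow r (kernel ev) Er) {G : X.Modules}
    (hG : PicF.IsInvertible G) [Module.Finite k (Coh.HH X G 0)] (hr : Module.finrank k (Coh.HH X G 0) ≤ r) :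
    Subsingleton (Coh.HH X (CohB1.tensorMod Er G) 0) := by
  obtain ⟨b, hb⟩ := exists_span k hr
  have h1 : ∀ t : Sec (CohB1.tensorMod Er G) ⊤, t = 0 :=
    fun t => sec_eq_zero hL ev (fun c hc => ind_of_inj ev hinj c hc) hEr hG b hb t
  refine ⟨fun a a' => ?_⟩
  apply (eqS (CohB1.tensorMod Er G)).injective
  rw [h1 (eqS _ a), h1 (eqS _ a')]

end K132.GreenMain
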