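import Groth.Agent.AbVar.K132.GreenPoly
import Groth.Agent.AbVar.K132.GreenHilb
import Groth.Agent.AbVar.K132.GreenMain
import Groth.Agent.AbVar.K511.AmpleVan
import Groth.Prelude.Def_StabCat

/-!
# The numerical part of the stability of the kernel bundle on an abelian variety

* `hasIdx_zero`: an ample class with a section has index `0`;
* `hilb_unit`: the Hilbert polynomial of `O` with respect to `L` is `χ(L) X^g`;
* `coeff_kernel`: the coefficient of degree `g - 1` of the Hilbert polynomial of `M_L` is `- g χ(L)`;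
* `finrank_le`: the bound `h^0(G') ≤ r`.
-/

set_option autoImplicit false
set_option linter.unusedSectionVars false
universe u

open CategoryTheory CategoryTheory.Limits MonoidalCategory CartesianMonoidalCategory AlgebraicGeometry TopologicalSpace
open scoped MonObj
open Groth.Agent Groth.Agent.Grpsch.PicGrp Groth.Agent.Grpsch.Cube Groth.Agent.Fdesc.LocGen K524.Kun K524.Index K524.Chi K524.Bc
open K506.HilbIdx

attribute [local instance] Functor.grpObjObj

namespace K132.GreenAV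

variable {k : Type u} [Field k] {X : Over (Spec (CommRingCat.of k))}
  [GrpObj X] [IsProper X.hom] [GeometricallyIntegral X.hom]

theorem hasIdx_zero {L : X.left.Modules} (hL : CohB1.IsAmple L) (h0 : Nontrivial (Coh.HH X.left L 0)) :
    HasIdx (mk L hL.1) 0 :=
  (hasIdx_mk hL.1 0).2 ⟨fun j hj => K511.AmpleVan.vanish X L hL j (Nat.pos_of_ne_zero hj), h0⟩

theorem chi_eq_finrank {L : X.left.Modules} (hL : CohB1.IsAmple L) (h0 : Nontrivial (Coh.HH X.left L 0)) :
    chi (X := X) (mk L hL.1) = (@Module.finrank k (Coh.HH X.left L 0) _ _ (@Coh.moduleOver k _ X.left ⟨X.hom⟩ L 0) : ℤ) := by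
  rw [chi_eq hL.1 (hasIdx_zero hL h0), pow_zero, one_mul]

theorem chi_modules {L H : X.left.Modules} (hL : PicF.IsInvertible L) (hH : PicF.IsInvertible H) (n : ℕ) :
    (chi (X := X) (mk L hL * mk H hH ^ n) : ℚ) =
      (@Curv2.euler k _ X.left ⟨X.hom⟩ (CohB1.tensorMod L (CohB1.tensorPow H n)) : ℚ) := by
  rw [← mk_tensorPow hH n, mk_mul_mk hL (isInvertible_tensorPow hH n), chi_mk]

/-- The Hilbert polynomial of an invertible module. -/
theorem hilb_eval {L G : X.left.Modules} (hL : PicF.IsInvertible L) (hG : PicF.IsInvertible G) {P : Polynomial ℚ}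
    (hP : @ShStab.IsHilbPoly k _ X.left ⟨X.hom⟩ L G P) (n : ℕ) :
    P.eval (n : ℚ) = (chi (X := X) (mk G hG * mk L hL ^ n) : ℚ) :=
  eval_of_modules hG hL P (fun m => (hP m).symm) n

theorem hilb_unit {g : ℕ} (hg : topologicalKrullDim X.left = g) {L : X.left.Modules} (hL : PicF.IsInvertible L)
    {P : Polynomial ℚ} (hP : @ShStab.IsHilbPoly k _ X.left ⟨X.hom⟩ L (Coh.structureModule X.left) P) :
    P = Polynomial.C (chi (X := X) (mk L hL) : ℚ) * Polynomial.X ^ g := by
  refine Polynomial.eq_of_infinite_eval_eq _ _ ?_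
  refine (Set.infinite_range_of_injective (f := fun m : ℕ => (m : ℚ)) Nat.cast_injective).mono ?_
  rintro _ ⟨m, rfl⟩
  change Polynomial.eval _ _ = Polynomial.eval _ _
  have h1 : (mk (Coh.structureModule X.left) isInvertible_structureModule : Pic X.left) = 1 := rfl
  rw [hilb_eval hL isInvertible_structureModule hP m, h1, one_mul, chi_pow hg]
  simp [mul_comm]

theorem coeff_unit {g : ℕ} (hg1 : 1 ≤ g) (hg : topologicalKrullDim X.left = g) {L : X.left.Modules}
    (hL : PicF.IsInvertible L) {P : Polynomial ℚ}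
    (hP : @ShStab.IsHilbPoly k _ X.left ⟨X.hom⟩ L (Coh.structureModule X.left) P) : P.coeff (g - 1) = 0 := by
  rw [hilb_unit hg hL hP, Polynomial.coeff_C_mul, Polynomial.coeff_X_pow, if_neg (by omega), mul_zero]

/-- The second coefficient of the Hilbert polynomial of the kernel bundle. -/
theorem coeff_kernel {g : ℕ} (hg1 : 1 ≤ g) (hg : topologicalKrullDim X.left = g) {L : X.left.Modules}
    (hL : PicF.IsInvertible L) {P Q : Polynomial ℚ}
    (hP : @ShStab.IsHilbPoly k _ X.left ⟨X.hom⟩ L (Coh.structureModule X.left) P) (J : Type u) [Fintype J]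
    (ev : S18223.Fr X.left J ⟶ L) [Epi ev] (hQ : @ShStab.IsHilbPoly k _ X.left ⟨X.hom⟩ L (kernel ev) Q) {ρ : ℕ}
    (hρ : Fintype.card J = ρ + 1) : Q.coeff (g - 1) = - ((g : ℚ) * (chi (X := X) (mk L hL) : ℚ)) := by
  let _ : X.left.Over (Spec (CommRingCat.of k)) := ⟨X.hom⟩
  have hp : IsProper (X.left ↘ (Spec (CommRingCat.of k))) := inferInstanceAs (IsProper X.hom)
  have h1 := GreenHilb.hilb_kernel k hL hP J ev hQ hρ
  obtain ⟨r, rfl⟩ : ∃ r, g = r + 1 := ⟨g - 1, by omega⟩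
  rw [Nat.add_sub_cancel]
  have h2 : P.natDegree ≤ r + 1 := by
    rw [hilb_unit hg hL hP]
    exact Polynomial.natDegree_C_mul_X_pow_le _ _
  have h3 := K847.HilbBasic.coeff_comp_sub h2 1
  have h4 : P.coeff r = 0 := coeff_unit hg1 hg hL hP
  have h5 : P.coeff (r + 1) = (chi (X := X) (mk L hL) : ℚ) := by
    rw [hilb_unit hg hL hP, Polynomial.coeff_C_mul, Polynomial.coeff_X_pow, if_pos rfl, mul_one]
  rw [Polynomial.coeff_sub, h4, h5, sub_zero] at h3
  rw [h1, Polynomial.coeff_sub, Polynomial.coeff_C_mul, h4, h3]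
  push_cast
  ring

/-- The numerical bound. -/
theorem finrank_le {g : ℕ} (hg1 : 1 ≤ g) (hg : topologicalKrullDim X.left = g) {L G G' : X.left.Modules}
    (hL : PicF.IsInvertible L) (hG' : CohB1.IsAmple G') (h0 : Nontrivial (Coh.HH X.left G' 0))
    (hG : PicF.IsInvertible G) (hinv : mk G hG = (mk G' hG'.1)⁻¹) {ρ r : ℕ} (hr : 0 < r) (hrρ : r < ρ)
    (hl : chi (X := X) (mk L hL) = ρ + 1) {Φ : Polynomial ℚ}
    (hΦ : ∀ n : ℕ, Φ.eval (n : ℚ) = (chi (X := X) (mk G' hG'.1 * mk L hL ^ n) : ℚ))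
    (hroots : Multiset.card (Φ.map (algebraMap ℚ ℝ)).roots = Φ.natDegree)
    (hpos : 0 = Multiset.card ((Φ.map (algebraMap ℚ ℝ)).roots.filter (fun t => 0 < t)))
    {Q : Polynomial ℚ} (hQ : @ShStab.IsHilbPoly k _ X.left ⟨X.hom⟩ L G Q)
    (hcond : (r : ℚ) * (- ((g : ℚ) * ((ρ : ℚ) + 1))) ≤ (ρ : ℚ) * Q.coeff (g - 1)) :
    @Module.finrank k (Coh.HH X.left G' 0) _ _ (@Coh.moduleOver k _ X.left ⟨X.hom⟩ G' 0) ≤ r := by
  have hl0 : chi (X := X) (mk L hL) ≠ 0 := by
    rw [hl]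
    positivity
  obtain ⟨hdeg, hlead⟩ := GreenPoly.deg_lead hg (mk G' hG'.1) (mk L hL) hl0 Φ hΦ
  have hQ' : Q = Polynomial.C ((-1 : ℚ) ^ g) * Φ.comp (-Polynomial.X) :=
    GreenPoly.inv_eq hg (mk G' hG'.1) (mk L hL) Φ Q hΦ (fun n => by rw [← hinv]; exact hilb_eval hL hG hQ n)
  have hcoeff : Q.coeff (g - 1) = - Φ.coeff (g - 1) := by
    rw [hQ', Polynomial.coeff_C_mul]
    have h1 : (Φ.comp (-Polynomial.X)).coeff (g - 1) = (-1) ^ (g - 1) * Φ.coeff (g - 1) := by
      have h2 : (-Polynomial.X : Polynomial ℚ) = Polynomial.C (-1) * Polynomial.X := by simp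
      rw [h2, Polynomial.comp_C_mul_X_coeff, mul_comm]
    rw [h1, ← mul_assoc, ← pow_add]
    have h3 : g + (g - 1) = 2 * (g - 1) + 1 := by omega
    rw [h3, pow_add, pow_mul]
    simp
  rw [hcoeff] at hcond
  have hinj : Function.Injective (algebraMap ℚ ℝ) := (algebraMap ℚ ℝ).injective
  have h4 := GreenNum.eval_zero_lt (Φ.map (algebraMap ℚ ℝ)) (g := g) (r := r) (ρ := ρ) hg1 hr hrρ
    (by rw [Polynomial.natDegree_map_eq_of_injective hinj, hdeg])
    (by
      rw [Polynomial.leadingCoeff_map_of_injective hinj, hlead, hl]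
      push_cast
      simp)
    (by rw [hroots, hdeg])
    (by
      intro t ht
      by_contra hcon
      push Not at hcon
      have h5 : t ∈ (Φ.map (algebraMap ℚ ℝ)).roots.filter (fun t => 0 < t) := Multiset.mem_filter.2 ⟨ht, hcon⟩
      rw [Multiset.card_eq_zero.1 hpos.symm] at h5
      exact Multiset.notMem_zero _ h5)
    (by
      rw [Polynomial.coeff_map]
      have h6 : ((ρ : ℚ) * Φ.coeff (g - 1)) ≤ r * (g * (ρ + 1)) := by linarith
      have h7 : (((ρ : ℚ) * Φ.coeff (g - 1) : ℚ) : ℝ) ≤ ((r * (g * (ρ + 1)) : ℚ) : ℝ) := by exact_mod_cast h6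
      push_cast at h7
      simpa using h7)
  have h8 : (Φ.map (algebraMap ℚ ℝ)).eval 0 = ((chi (X := X) (mk G' hG'.1) : ℤ) : ℝ) := by
    have h9 := hΦ 0
    rw [pow_zero, mul_one, Nat.cast_zero] at h9
    have h10 : (Φ.map (algebraMap ℚ ℝ)).eval 0 = algebraMap ℚ ℝ (Φ.eval 0) :=
      Polynomial.eval_zero_map (algebraMap ℚ ℝ) Φ
    rw [h10, h9]
    simp
  rw [h8, chi_eq_finrank hG' h0] at h4
  have h11 : (@Module.finrank k (Coh.HH X.left G' 0) _ _ (@Coh.moduleOver k _ X.left ⟨X.hom⟩ G' 0) : ℝ) < r + 1 := by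
    exact_mod_cast h4
  have h12 : @Module.finrank k (Coh.HH X.left G' 0) _ _ (@Coh.moduleOver k _ X.left ⟨X.hom⟩ G' 0) < r + 1 := by
    exact_mod_cast h11
  omega

end K132.GreenAV
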