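import Mathlib.LinearAlgebra.ExteriorPower.Basis
import Mathlib.LinearAlgebra.Matrix.NonsingularInverse
import Mathlib.LinearAlgebra.Matrix.ToLin
import Mathlib.LinearAlgebra.Matrix.ToLinearEquiv
import Mathlib.LinearAlgebra.Dimension.Constructions
import Mathlib.LinearAlgebra.FiniteDimensional.Lemmas
import Mathlib.RingTheory.Jacobson.Ring
import Mathlib.FieldTheory.IsAlgClosed.Basic

/-!
# Green's vanishing theorem: the algebra

* `exists_point`: a nonzero element of a finitely generated domain over an algebraically closed field does not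
  vanish at some point;
* `exists_points`: points in general position with respect to finitely many finite dimensional spaces of
  functions;
* `eq_zero`: the algebraic form of Green's vanishing theorem `H^0(Λ^r M_L ⊗ B) = 0` for `r ≥ h^0(B)`.
-/

set_option autoImplicit false

universe u

namespace K132.GreenAlg

open Module

section Points

variable {k A : Type u} [Field k] [IsAlgClosed k] [CommRing A] [IsDomain A] [Algebra k A]
  [Algebra.FiniteType k A]

/-- A nonzero element does not vanish at some point. -/
theorem exists_point (a : A) (ha : a ≠ 0) : ∃ P : A →ₐ[k] k, P a ≠ 0 := by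
  by_contra hcon
  push Not at hcon
  have hJ : IsJacobsonRing A := isJacobsonRing_of_finiteType (A := k)
  have h1 : a ∈ nilradical A := by
    rw [nilradical, Ideal.radical_eq_jacobson, Ideal.jacobson, Ideal.mem_sInf]
    rintro m ⟨-, hm⟩
    let : Field (A ⧸ m) := Ideal.Quotient.field m
    have : Algebra.FiniteType k (A ⧸ m) := inferInstance
    have : Module.Finite k (A ⧸ m) := finite_of_finite_type_of_isJacobsonRing k (A ⧸ m)
    have hb := IsAlgClosed.algebraMap_bijective_of_isIntegral (k := k) (K := A ⧸ m)
    let e : k ≃ₐ[k] (A ⧸ m) := AlgEquiv.ofBijective (Algebra.ofId k (A ⧸ m)) hb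
    have h2 := hcon ((e.symm : (A ⧸ m) →ₐ[k] k).comp (Ideal.Quotient.mkₐ k m))
    rw [← Ideal.Quotient.eq_zero_iff_mem]
    exact e.symm.injective (by simpa using h2)
  rw [mem_nilradical] at h1
  exact ha h1.eq_zero

/-- The functions of a space vanishing at a finite set of points. -/
def van {n : ℕ} (W : Submodule k A) (P : Fin n → (A →ₐ[k] k)) (S : Finset (Fin n)) : Submodule k A :=
  W ⊓ ⨅ i ∈ S, LinearMap.ker (P i).toLinearMap

omit [IsAlgClosed k] [IsDomain A] [Algebra.FiniteType k A] in
theorem mem_van {n : ℕ} {W : Submodule k A} {P : Fin n → (A →ₐ[k] k)} {S : Finset (Fin n)} {a : A} :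
    a ∈ van W P S ↔ a ∈ W ∧ ∀ i ∈ S, P i a = 0 := by
  simp [van]

/-- Points in general position. -/
theorem exists_points {α : Type*} [Finite α] (W : α → Submodule k A) [∀ a, FiniteDimensional k (W a)] (n : ℕ) :
    ∃ P : Fin n → (A →ₐ[k] k), ∀ (a : α) (S : Finset (Fin n)),
      finrank k (van (W a) P S) ≤ finrank k (W a) - S.card := by
  classical
  cases nonempty_fintype α
  induction n with
  | zero =>
    refine ⟨fun i => i.elim0, fun a S => ?_⟩
    have hS : S = ∅ := Subsingleton.elim _ _
    subst hS
    rw [Finset.card_empty, Nat.sub_zero]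
    exact Submodule.finrank_mono inf_le_left
  | succ n ih =>
    obtain ⟨P, hP⟩ := ih
    have hchoose : ∀ (a : α) (S : Finset (Fin n)), ∃ w : A, w ≠ 0 ∧
        (van (W a) P S ≠ ⊥ → w ∈ van (W a) P S) := by
      intro a S
      by_cases h : van (W a) P S = ⊥
      · exact ⟨1, one_ne_zero, fun h' => (h' h).elim⟩
      · obtain ⟨w, hw, hw0⟩ := Submodule.exists_mem_ne_zero_of_ne_bot h
        exact ⟨w, hw0, fun _ => hw⟩
    choose w hw0 hw using hchoose
    obtain ⟨Q, hQ⟩ := exists_point (k := k) (∏ a : α, ∏ S : Finset (Fin n), w a S)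
      (Finset.prod_ne_zero_iff.2 fun a _ => Finset.prod_ne_zero_iff.2 fun S _ => hw0 a S)
    have hQ' : ∀ a S, Q (w a S) ≠ 0 := by
      intro a S h0
      apply hQ
      rw [map_prod]
      apply Finset.prod_eq_zero (Finset.mem_univ a)
      rw [map_prod]
      exact Finset.prod_eq_zero (Finset.mem_univ S) h0
    refine ⟨Fin.snoc P Q, fun a S => ?_⟩
    let S' : Finset (Fin n) := Finset.univ.filter fun i => Fin.castSucc i ∈ S
    have hle : van (W a) (Fin.snoc P Q : Fin (n + 1) → (A →ₐ[k] k)) S ≤ van (W a) P S' := by
      intro x hx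
      rw [mem_van] at hx ⊢
      refine ⟨hx.1, fun i hi => ?_⟩
      have := hx.2 (Fin.castSucc i) (Finset.mem_filter.1 hi).2
      simpa using this
    by_cases hl : Fin.last n ∈ S
    · have hcard : S.card = S'.card + 1 := by
        have h3 : S = insert (Fin.last n) (S'.map Fin.castSuccEmb) := by
          ext i
          induction i using Fin.lastCases with
          | last => simp [hl]
          | cast i => simp [S', Fin.castSucc_ne_last]
        rw [h3, Finset.card_insert_of_notMem, Finset.card_map]
        simp [Fin.castSucc_ne_last]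
      by_cases hb : van (W a) P S' = ⊥
      · have h4 : van (W a) (Fin.snoc P Q : Fin (n + 1) → (A →ₐ[k] k)) S = ⊥ :=
          le_bot_iff.1 (hb ▸ hle)
        rw [h4, finrank_bot]
        exact Nat.zero_le _
      · have hlt : van (W a) (Fin.snoc P Q : Fin (n + 1) → (A →ₐ[k] k)) S < van (W a) P S' := by
          refine lt_of_le_of_ne hle fun heq => ?_
          have h5 := hw a S' hb
          rw [← heq, mem_van] at h5
          have h6 := h5.2 (Fin.last n) hl
          rw [Fin.snoc_last] at h6
          exact hQ' a S' h6
        have : FiniteDimensional k (van (W a) P S') :=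
          Submodule.finiteDimensional_of_le (inf_le_left : van (W a) P S' ≤ W a)
        have h7 := Submodule.finrank_lt_finrank_of_lt hlt
        have h8 := hP a S'
        omega
    · have hcard : S.card = S'.card := by
        have h3 : S = S'.map Fin.castSuccEmb := by
          ext i
          induction i using Fin.lastCases with
          | last => simp [hl, Fin.castSucc_ne_last]
          | cast i => simp [S']
        rw [h3, Finset.card_map]
      have : FiniteDimensional k (van (W a) P S') :=
          Submodule.finiteDimensional_of_le (inf_le_left : van (W a) P S' ≤ W a)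
      have h7 := Submodule.finrank_mono hle
      have h8 := hP a S'
      omega

end Points

section Pairing

variable {A : Type u} [CommRing A] {M N : Type*} [AddCommGroup M] [Module A M] [AddCommGroup N] [Module A N]

/-- The pairing is functorial. -/
theorem pairing_map {r : ℕ} (j : M →ₗ[A] N) (f : Fin r → Dual A N) (ω : ⋀[A]^r M) :
    exteriorPower.pairingDual A N r (exteriorPower.ιMulti A r f) (exteriorPower.map r j ω) =
      exteriorPower.pairingDual A M r (exteriorPower.ιMulti A r (fun i => f i ∘ₗ j)) ω := by
  have h : (exteriorPower.pairingDual A N r (exteriorPower.ιMulti A r f)) ∘ₗ (exteriorPower.map r j) =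
      exteriorPower.pairingDual A M r (exteriorPower.ιMulti A r (fun i => f i ∘ₗ j)) := by
    apply exteriorPower.linearMap_ext
    ext m
    simp
  exact congr($h ω)

/-- A linear map to a ring killing the decomposable vectors modulo the kernel of a ring map. -/
theorem ringHom_pairing_eq_zero {B : Type*} [CommRing B] (P : A →+* B) {r : ℕ} (f : Fin r → Dual A M) (i : Fin r)
    (h : ∀ m, P (f i m) = 0) (ω : ⋀[A]^r M) :
    P (exteriorPower.pairingDual A M r (exteriorPower.ιMulti A r f) ω) = 0 := by
  have hω : ω ∈ Submodule.span A (Set.range (exteriorPower.ιMulti A r (M := M))) := by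
    rw [exteriorPower.ιMulti_span]; trivial
  induction hω using Submodule.span_induction with
  | mem x hx =>
    obtain ⟨m, rfl⟩ := hx
    rw [exteriorPower.pairingDual_ιMulti_ιMulti, RingHom.map_det]
    apply Matrix.det_eq_zero_of_column_eq_zero i
    intro l
    exact h _
  | zero => rw [map_zero, map_zero]
  | add x y _ _ hx hy => rw [map_add, map_add, hx, hy, add_zero]
  | smul a x _ hx => rw [map_smul, smul_eq_mul, map_mul, hx, mul_zero]

end Pairing

section Main

variable {k A : Type u} [Field k] [CommRing A] [Algebra k A]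

/-- The functional with constant coefficients. -/
noncomputable def lf {ι : Type*} [Fintype ι] (l : ι → k) : (ι → A) →ₗ[A] A :=
  ∑ i, (algebraMap k A (l i)) • LinearMap.proj i

theorem lf_apply {ι : Type*} [Fintype ι] (l : ι → k) (x : ι → A) :
    lf l x = ∑ i, algebraMap k A (l i) * x i := by
  simp only [lf, LinearMap.sum_apply, LinearMap.smul_apply, LinearMap.proj_apply, smul_eq_mul]

/-- A basis whose coordinates are given functionals with constant coefficients. -/
theorem exists_basis {ι : Type*} [Fintype ι] {n : ℕ} (hn : Fintype.card ι = n) (Q : Fin n → ι → k)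
    (hQ : ∀ c : ι → k, (∀ a, ∑ i, c i * Q a i = 0) → c = 0) :
    ∃ b : Basis (Fin n) A (ι → A), ∀ a, b.coord a = lf (Q a) := by
  classical
  let e : Fin n ≃ ι := (Fintype.equivFinOfCardEq hn).symm
  let q : Matrix (Fin n) (Fin n) k := Matrix.of fun a b => Q a (e b)
  have hdet : q.det ≠ 0 := by
    intro h0
    obtain ⟨c, hc, hc'⟩ := Matrix.exists_mulVec_eq_zero_iff.2 h0
    apply hc
    have h1 := hQ (fun i => c (e.symm i)) (fun a => by
      rw [← Equiv.sum_comp e]
      have h2 := congr_fun hc' a
      simp only [Matrix.mulVec, dotProduct, q, Matrix.of_apply, Pi.zero_apply] at h2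
      rw [← h2]
      refine Finset.sum_congr rfl fun b _ => ?_
      rw [e.symm_apply_apply, mul_comm])
    funext b
    have := congr_fun h1 (e b)
    simpa using this
  let qA : Matrix (Fin n) (Fin n) A := (algebraMap k A).mapMatrix q
  have hu : IsUnit qA.det := by
    rw [← RingHom.map_det]
    exact (isUnit_iff_ne_zero.2 hdet).map _
  have h3 : IsUnit qA := (Matrix.isUnit_iff_isUnit_det _).2 hu
  let f : (ι → A) ≃ₗ[A] (Fin n → A) := (LinearEquiv.funCongrLeft A A e) ≪≫ₗ
    Matrix.toLin'OfInv (Matrix.nonsing_inv_mul qA hu) (Matrix.mul_nonsing_inv qA hu)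
  refine ⟨Basis.ofEquivFun f, fun a => ?_⟩
  apply LinearMap.ext
  intro x
  rw [lf_apply, Basis.coord_apply, Basis.ofEquivFun_repr_apply, ← Equiv.sum_comp e]
  have h4 : f x = Matrix.toLin' qA (fun i => x (e i)) := by
    simp only [f, LinearEquiv.trans_apply]
    rfl
  rw [h4, Matrix.toLin'_apply]
  rfl

variable [IsAlgClosed k] [IsDomain A] [Algebra.FiniteType k A]

/-- The algebraic form of Green's vanishing theorem. -/
theorem eq_zero {ι : Type*} [Fintype ι] {r : ℕ} (v : ι → A) (hv : LinearIndependent k v)
    (W : Submodule k A) [FiniteDimensional k W] (hW : finrank k W ≤ r)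
    {M : Type u} [AddCommGroup M] [Module A M] (j : M →ₗ[A] (ι → A))
    (hj : Function.Injective (exteriorPower.map r j)) (hjv : ∀ m, ∑ i, v i * j m i = 0)
    (ω : ⋀[A]^r M)
    (hω : ∀ l : Fin r → ι → k,
      exteriorPower.pairingDual A M r (exteriorPower.ιMulti A r (fun i => lf (l i) ∘ₗ j)) ω ∈ W) :
    ω = 0 := by
  classical
  have hinst : FiniteDimensional k (Submodule.span k (Set.range v)) :=
    FiniteDimensional.span_of_finite k (Set.finite_range v)
  have hinst2 : ∀ a : Bool, FiniteDimensional k
      ((fun a : Bool => if a then W else Submodule.span k (Set.range v)) a) := by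
    rintro (_ | _)
    · exact hinst
    · assumption
  obtain ⟨P, hP⟩ := exists_points (fun a : Bool => if a then W else Submodule.span k (Set.range v))
    (Fintype.card ι)
  have hPW : ∀ S : Finset (Fin (Fintype.card ι)), finrank k (van W P S) ≤ finrank k W - S.card :=
    fun S => hP true S
  have hPV : finrank k (van (Submodule.span k (Set.range v)) P Finset.univ) = 0 := by
    have h1 : finrank k (van (Submodule.span k (Set.range v)) P Finset.univ) ≤
        finrank k (Submodule.span k (Set.range v)) - (Finset.univ : Finset (Fin (Fintype.card ι))).card :=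
      hP false Finset.univ
    rw [finrank_span_eq_card hv, Finset.card_univ, Fintype.card_fin, Nat.sub_self] at h1
    omega
  have hPV' : van (Submodule.span k (Set.range v)) P Finset.univ = ⊥ := by
    have : FiniteDimensional k (van (Submodule.span k (Set.range v)) P Finset.univ) :=
      Submodule.finiteDimensional_of_le
        (inf_le_left : van (Submodule.span k (Set.range v)) P Finset.univ ≤ Submodule.span k (Set.range v))
    exact Submodule.finrank_eq_zero.1 hPV
  obtain ⟨b, hb⟩ := exists_basis (A := A) (ι := ι) rfl (fun a i => P a (v i)) (by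
    intro c hc
    have h2 : ∑ i, c i • v i ∈ van (Submodule.span k (Set.range v)) P Finset.univ := by
      rw [mem_van]
      refine ⟨Submodule.sum_mem _ fun i _ => Submodule.smul_mem _ _ (Submodule.subset_span ⟨i, rfl⟩), ?_⟩
      intro a _
      rw [map_sum, ← hc a]
      exact Finset.sum_congr rfl fun i _ => by rw [map_smul, smul_eq_mul]
    rw [hPV', Submodule.mem_bot] at h2
    funext i
    exact (Fintype.linearIndependent_iff.1 hv) c h2 i)
  apply hj
  rw [map_zero]
  apply (b.exteriorPower r).repr.injective
  rw [map_zero]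
  ext S
  rw [exteriorPower.basis_repr_apply, exteriorPower.ιMultiDual, exteriorPower.ιMulti_family, pairing_map]
  have hfun : (fun i => (b.coord ∘ (Set.powersetCard.ofFinEmbEquiv.symm S)) i ∘ₗ j) =
      fun i => lf (fun t => P (Set.powersetCard.ofFinEmbEquiv.symm S i) (v t)) ∘ₗ j := by
    funext i
    rw [Function.comp_apply, hb]
  rw [hfun]
  have h3 := hω (fun i t => P (Set.powersetCard.ofFinEmbEquiv.symm S i) (v t))
  set z := exteriorPower.pairingDual A M r (exteriorPower.ιMulti A r
    (fun i => lf (fun t => P (Set.powersetCard.ofFinEmbEquiv.symm S i) (v t)) ∘ₗ j)) ω with hz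
  have h4 : z ∈ van W P (S : Finset (Fin (Fintype.card ι))) := by
    rw [mem_van]
    refine ⟨h3, fun a ha => ?_⟩
    obtain ⟨i, rfl⟩ := (Set.powersetCard.mem_range_ofFinEmbEquiv_symm_iff_mem S a).mpr ha
    refine ringHom_pairing_eq_zero (P (Set.powersetCard.ofFinEmbEquiv.symm S i) : A →+* k) _ i ?_ ω
    intro m
    have h5 := congrArg (P (Set.powersetCard.ofFinEmbEquiv.symm S i)) (hjv m)
    rw [map_zero] at h5
    rw [← h5, LinearMap.comp_apply, lf_apply, map_sum, RingHom.coe_coe, map_sum]
    refine Finset.sum_congr rfl fun t _ => ?_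
    rw [map_mul, map_mul, AlgHom.commutes]
    rfl
  have h6 : van W P (S : Finset (Fin (Fintype.card ι))) = ⊥ := by
    have : FiniteDimensional k (van W P (S : Finset (Fin (Fintype.card ι)))) :=
      Submodule.finiteDimensional_of_le (inf_le_left : van W P (S : Finset (Fin (Fintype.card ι))) ≤ W)
    apply Submodule.finrank_eq_zero.1
    have h7 := hPW (S : Finset (Fin (Fintype.card ι)))
    have h8 : (S : Finset (Fin (Fintype.card ι))).card = r := S.2
    omega
  rw [h6, Submodule.mem_bot] at h4
  rw [h4]
  rfl

end Main

end K132.GreenAlg
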