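import Groth.Agent.AbVar.K132.GreenAV
import Groth.Agent.S18229
import Groth.Agent.S1536
import Groth.Agent.S0002

/-!
# Stability of the kernel bundle on a simple abelian variety: the cohomological input

* `isZero_of_rank_zero`, `isInvertible_of_inverse`;
* `two_le_card`: the evaluation map of an ample module has at least two sections;
* `vanish`: `H^0(X, Λ^r M_L ⊗ G') = 0` under the slope condition, from the root count S17501.
-/

set_option autoImplicit false
set_option linter.unusedSectionVars false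
universe u

open CategoryTheory CategoryTheory.Limits MonoidalCategory CartesianMonoidalCategory AlgebraicGeometry TopologicalSpace
open scoped MonObj
open Groth.Agent Groth.Agent.Grpsch.PicGrp Groth.Agent.Grpsch.Cube Groth.Agent.Fdesc.LocGen K524.Kun K524.Index K524.Chi K524.Bc
open Groth.Agent.Sga67.Sec Groth.Agent.Sga67.LocBasis

attribute [local instance] Functor.grpObjObj

namespace K132.GreenFin

section basic

variable {X : Scheme.{u}}

theorem isZero_of_rank_zero {M : X.Modules} (h : FlatMod.IsFinLocFreeOfRank 0 M) : IsZero M := by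
  rw [IsZero.iff_id_eq_zero]
  apply hom_ext_of_locally
  intro x U hx
  obtain ⟨V, hV, hxV, b, hb⟩ := K698.Basic.exists_basis h hx
  refine ⟨V, hV, hxV, fun s => ?_⟩
  obtain ⟨a, ha⟩ := (hb V le_rfl).2 s
  rw [appS_id, appS_zero, ← ha, comb_apply]
  exact Finset.sum_of_isEmpty _

theorem isInv_of_iso {L M : X.Modules} (e : L ≅ M) (hL : PicF.IsInvertible L) : PicF.IsInvertible M := fun x => by
  obtain ⟨U, hx, ⟨i⟩⟩ := hL x
  exact ⟨U, hx, ⟨(Scheme.Modules.restrictFunctor U.ι).mapIso e.symm ≪≫ i⟩⟩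

theorem isInvertible_of_inverse {G G' : X.Modules} (hG : PicF.IsInvertible G) (h : ClSub.IsInverseOf G' G) :
    ∃ hG' : PicF.IsInvertible G', mk G hG = (mk G' hG')⁻¹ := by
  obtain ⟨D, hD, hGD⟩ := exists_inverse hG
  have h1 : Fga.PicMon.mc G' * Fga.PicMon.mc G = 1 := (Fga.PicMon.mc_eq_iff _ _).2 h
  have h2 : Fga.PicMon.mc G * Fga.PicMon.mc D = 1 := (Fga.PicMon.mc_eq_iff _ _).2 hGD
  have h3 : Fga.PicMon.mc G' = Fga.PicMon.mc D := by
    rw [← mul_one (Fga.PicMon.mc G'), ← h2, ← mul_assoc, h1, one_mul]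
  obtain ⟨e⟩ := (Fga.PicMon.mc_eq_iff _ _).1 h3
  have hG' : PicF.IsInvertible G' := isInv_of_iso e.symm hD
  refine ⟨hG', ?_⟩
  rw [eq_inv_iff_mul_eq_one, mul_comm, mk_mul_mk, mk_eq_one_iff]
  exact h

end basic

variable {k : Type u} [Field k] [IsAlgClosed k] {X : Over (Spec (CommRingCat.of k))}
  [GrpObj X] [IsProper X.hom] [GeometricallyIntegral X.hom]

/-- The evaluation map of an ample module has at least two sections. -/
theorem card_ne_one {g : ℕ} (hg1 : 1 ≤ g) (hg : topologicalKrullDim X.left = g) {L : X.left.Modules}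
    (hL : PicF.IsInvertible L) (J : Type u) [Fintype J] (ev : S18223.Fr X.left J ⟶ L) [Epi ev]
    (hl : chi (X := X) (mk L hL) = Fintype.card J) : Fintype.card J ≠ 1 := by
  intro h1
  have h2 := GreenHilb.rank_kernel hL J ev (ρ := 0) h1
  have h3 : Mono ev := Preadditive.mono_of_isZero_kernel ev (isZero_of_rank_zero h2)
  have h4 : IsIso ev := isIso_of_mono_of_epi ev
  obtain ⟨e⟩ := GreenHilb.nonempty_iso_freeMod (X := X.left) J h1
  have e1 : L ≅ Coh.structureModule X.left := (asIso ev).symm ≪≫ e ≪≫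
    (Limits.coproductUniqueIso (fun _ : Fin 1 => Coh.structureModule X.left))
  have h5 : mk L hL = 1 := (mk_eq_one_iff hL).2 ⟨e1⟩
  have h6 := K506.HilbIdx.chi_pow hg (1 : Pic X.left) 2
  rw [one_pow, ← h5, hl, h1] at h6
  have h7 : (2 : ℤ) ≤ 2 ^ g := by
    calc (2 : ℤ) = 2 ^ 1 := (pow_one _).symm
      _ ≤ 2 ^ g := pow_le_pow_right₀ (by norm_num) hg1
  push_cast at h6
  linarith

theorem card_ne_zero (J : Type u) [Fintype J] {L : X.left.Modules} (hL : PicF.IsInvertible L)
    (ev : S18223.Fr X.left J ⟶ L) [Epi ev] : Fintype.card J ≠ 0 := by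
  intro h0
  have hint : IsIntegral X.left := GeometricallyIntegral.isIntegral_of_subsingleton X.hom
  have hJ : IsEmpty J := Fintype.card_eq_zero_iff.1 h0
  obtain ⟨x⟩ : Nonempty X.left := inferInstance
  obtain ⟨V1, -, hx1, γ, hγ⟩ := GreenVanish.exists_gen hL (show x ∈ (⊤ : X.left.Opens) from trivial)
  obtain ⟨V, hV, hxV, τ, hτ⟩ := locally_surjective_of_epi ev γ x hx1
  have h1 : τ = 0 := by
    rw [GreenSheaf.sum_crd J V τ]
    exact Finset.sum_of_isEmpty _
  have hγ' : IsLocBasis (fun _ : Fin 1 => Sga67.Sec.res L hV γ) := hγ.restrict hV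
  have h2 : (1 : Γ(X.left, V)) • Sga67.Sec.res L hV γ = (0 : Γ(X.left, V)) • Sga67.Sec.res L hV γ := by
    rw [_root_.one_smul, zero_smul, ← hτ, h1, map_zero]
  have h3 := GreenVanish.coeff_inj hγ' h2
  have : Nonempty V := ⟨⟨x, hxV⟩⟩
  exact one_ne_zero h3

end K132.GreenFin
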