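import Mathlib.Analysis.MeanInequalities
import Mathlib.Algebra.Polynomial.BigOperators
import Mathlib.Algebra.Polynomial.Reverse
import Mathlib.Algebra.Polynomial.Roots
import Mathlib.Algebra.Polynomial.Splits

/-!
# Green's vanishing theorem on abelian varieties: the numerics

* `prod_le`: arithmetic-geometric mean inequality for multisets;
* `eval_zero_lt`: the bound `Φ(0) < r + 1` for a polynomial with leading coefficient `ρ + 1`, only real
  nonpositive roots and second coefficient at most `r g (ρ + 1) / ρ`;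
* `deg_lead`: degree and leading coefficient of `Φ` from a reciprocity `P(N) = N^g Φ(1/N)`.
-/

set_option autoImplicit false

namespace K132.GreenNum

open Polynomial

/-- The arithmetic-geometric mean inequality. -/
theorem prod_le (s : Multiset ℝ) (hs : ∀ t ∈ s, 0 ≤ t) (hc : 0 < Multiset.card s) :
    s.prod ≤ (s.sum / Multiset.card s) ^ Multiset.card s := by
  induction s using Quotient.inductionOn with
  | h l =>
    simp only [Multiset.quot_mk_to_coe, Multiset.prod_coe, Multiset.sum_coe, Multiset.coe_card] at hs hc ⊢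
    have hn : (0 : ℝ) < l.length := by exact_mod_cast hc
    have h1 := Real.geom_mean_le_arith_mean_weighted (Finset.univ : Finset (Fin l.length))
      (fun _ => (l.length : ℝ)⁻¹) (fun i => l.get i) (fun _ _ => by positivity)
      (by rw [Finset.sum_const, Finset.card_univ, Fintype.card_fin, nsmul_eq_mul, mul_inv_cancel₀ hn.ne'])
      (fun i _ => hs _ (List.get_mem l i))
    rw [← Finset.mul_sum] at h1
    have h2 : ∑ i, l.get i = l.sum := by
      rw [← List.sum_ofFn, List.ofFn_get]
    have h3 : ∏ i, l.get i = l.prod := by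
      rw [← List.prod_ofFn, List.ofFn_get]
    rw [h2, inv_mul_eq_div] at h1
    have h4 : (∏ i : Fin l.length, (l.get i) ^ (l.length : ℝ)⁻¹) ^ l.length = l.prod := by
      rw [← Finset.prod_pow, ← h3]
      refine Finset.prod_congr rfl fun i _ => ?_
      exact Real.rpow_inv_natCast_pow (hs _ (List.get_mem l i)) (by omega)
    rw [← h4]
    refine pow_le_pow_left₀ ?_ h1 _
    exact Finset.prod_nonneg fun i _ => Real.rpow_nonneg (hs _ (List.get_mem l i)) _

/-- The numerical estimate. -/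
theorem eval_zero_lt (Φ : ℝ[X]) {g r ρ : ℕ} (hg : 1 ≤ g) (hr : 0 < r) (hrρ : r < ρ) (hdeg : Φ.natDegree = g)
    (hl : Φ.leadingCoeff = ρ + 1) (hroots : Multiset.card Φ.roots = g)
    (hpos : ∀ t ∈ Φ.roots, t ≤ 0) (hc : (ρ : ℝ) * Φ.coeff (g - 1) ≤ r * (g * (ρ + 1))) :
    Φ.eval 0 < r + 1 := by
  have hρ : (0 : ℝ) < ρ := by exact_mod_cast (by omega : 0 < ρ)
  have hr' : (0 : ℝ) < r := by exact_mod_cast hr
  have hrρ' : (r : ℝ) < ρ := by exact_mod_cast hrρ
  have hg' : (0 : ℝ) < g := by exact_mod_cast (by omega : 0 < g)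
  have h0 : Φ = C ((ρ : ℝ) + 1) * (Φ.roots.map fun a => X - C a).prod := by
    rw [← hl]
    exact (C_leadingCoeff_mul_prod_multiset_X_sub_C (by rw [hroots, hdeg])).symm
  let m : Multiset ℝ := Φ.roots.map fun a => -a
  have hm : ∀ t ∈ m, 0 ≤ t := by
    intro t ht
    obtain ⟨a, ha, rfl⟩ := Multiset.mem_map.1 ht
    have := hpos a ha
    linarith
  have hmc : Multiset.card m = g := by rw [Multiset.card_map, hroots]
  have h1 : Φ.eval 0 = ((ρ : ℝ) + 1) * m.prod := by
    conv_lhs => rw [h0]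
    rw [eval_mul, eval_C, eval_multiset_prod, Multiset.map_map]
    congr 2
    refine Multiset.map_congr rfl fun a _ => ?_
    simp
  have h2 : Φ.coeff (g - 1) = ((ρ : ℝ) + 1) * m.sum := by
    conv_lhs => rw [h0]
    rw [coeff_C_mul]
    congr 1
    have h3 := multiset_prod_X_sub_C_coeff_card_pred Φ.roots (by rw [hroots]; omega)
    rw [hroots] at h3
    rw [h3, Multiset.sum_map_neg']
  have h4 := prod_le m hm (by rw [hmc]; omega)
  rw [hmc] at h4
  have hsum : m.sum / g ≤ (r : ℝ) / ρ := by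
    rw [h2] at hc
    rw [div_le_div_iff₀ hg' hρ]
    have h5 : (0 : ℝ) < (ρ : ℝ) + 1 := by linarith
    refine le_of_mul_le_mul_right ?_ h5
    calc m.sum * ρ * (ρ + 1) = ρ * ((ρ + 1) * m.sum) := by ring
      _ ≤ r * (g * (ρ + 1)) := hc
      _ = r * g * (ρ + 1) := by ring
  have hsum0 : 0 ≤ m.sum / g := div_nonneg (Multiset.sum_nonneg hm) hg'.le
  have hq1 : (r : ℝ) / ρ < 1 := (div_lt_one hρ).2 hrρ'
  have hq0 : 0 ≤ (r : ℝ) / ρ := div_nonneg hr'.le hρ.le
  have h6 : m.prod ≤ (r : ℝ) / ρ :=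
    h4.trans ((pow_le_pow_left₀ hsum0 hsum g).trans (pow_le_of_le_one hq0 hq1.le (by omega)))
  rw [h1]
  have h7 : ((ρ : ℝ) + 1) * m.prod ≤ (ρ + 1) * (r / ρ) := mul_le_mul_of_nonneg_left h6 (by linarith)
  have h8 : ((ρ : ℝ) + 1) * (r / ρ) = r + r / ρ := by field_simp
  linarith

/-- Degree and leading coefficient from reciprocity. -/
theorem deg_lead {F : Type*} [Field F] [CharZero F] (Φ P : F[X]) (g : ℕ)
    (h : ∀ N : ℕ, 1 ≤ N → P.eval (N : F) = (N : F) ^ g * Φ.eval ((N : F)⁻¹)) (h0 : P.eval 0 ≠ 0) :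
    Φ.natDegree = g ∧ Φ.leadingCoeff = P.eval 0 := by
  have hP : P ≠ 0 := by
    rintro rfl
    simp at h0
  have key : X ^ Φ.natDegree * P = X ^ g * Φ.reverse := by
    refine Polynomial.eq_of_infinite_eval_eq _ _ ?_
    refine (Set.infinite_range_of_injective (f := fun m : ℕ => ((m + 1 : ℕ) : F))
      (fun a b hab => by
        have : a + 1 = b + 1 := Nat.cast_injective hab
        omega)).mono ?_
    rintro _ ⟨m, rfl⟩
    have hm : ((m + 1 : ℕ) : F) ≠ 0 := Nat.cast_ne_zero.2 (by omega)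
    change Polynomial.eval _ _ = Polynomial.eval _ _
    rw [eval_mul, eval_mul, eval_pow, eval_pow, eval_X, h (m + 1) (by omega)]
    have h1 : (reverse Φ).eval ((m + 1 : ℕ) : F) = ((m + 1 : ℕ) : F) ^ Φ.natDegree *
        Φ.eval (((m + 1 : ℕ) : F)⁻¹) := by
      let _ : Invertible (((m + 1 : ℕ) : F)⁻¹) := invertibleOfNonzero (inv_ne_zero hm)
      have h2 := eval₂_reverse_mul_pow (RingHom.id F) (((m + 1 : ℕ) : F)⁻¹) Φ
      rw [invOf_eq_inv, inv_inv] at h2
      change (reverse Φ).eval _ * _ = Φ.eval _ at h2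
      rw [← h2, mul_comm, mul_assoc, ← mul_pow, inv_mul_cancel₀ hm, one_pow, mul_one]
    rw [h1]
    ring
  have hΦ : Φ ≠ 0 := by
    rintro rfl
    rw [reverse_zero, mul_zero] at key
    exact hP ((mul_eq_zero.1 key).resolve_left (pow_ne_zero _ X_ne_zero))
  have hrev : (reverse Φ).coeff 0 = Φ.leadingCoeff := coeff_zero_reverse Φ
  have hP0 : P.coeff 0 = P.eval 0 := coeff_zero_eq_eval_zero P
  have h3 : Φ.natDegree = g := by
    rcases lt_trichotomy Φ.natDegree g with hlt | heq | hgt
    · exfalso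
      have h4 := congrArg (fun p => coeff p Φ.natDegree) key
      simp only [coeff_X_pow_mul', le_refl, if_true, Nat.sub_self] at h4
      rw [if_neg (by omega), hP0] at h4
      exact h0 h4
    · exact heq
    · exfalso
      have h4 := congrArg (fun p => coeff p g) key
      simp only [coeff_X_pow_mul', le_refl, if_true, Nat.sub_self] at h4
      rw [if_neg (by omega), hrev] at h4
      exact hΦ (leadingCoeff_eq_zero.1 h4.symm)
  refine ⟨h3, ?_⟩
  rw [h3] at key
  have h5 : P = reverse Φ := mul_left_cancel₀ (pow_ne_zero _ X_ne_zero) key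
  rw [← hrev, ← h5, hP0]

end K132.GreenNum
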