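import Groth.Agent.AbVar.K132.GreenNum
import Groth.Agent.AbVar.K506.HilbIdx

/-!
# Hilbert polynomials on an abelian variety

`X` an abelian variety over a field, `c`, `h` classes, `Φ(n) = χ(c h^n)`.
* `chi_cinv`: `χ(c⁻¹) = (-1)^g χ(c)`;
* `eval_neg`: `χ(c h^{-N}) = Φ(-N)`;
* `inv_eq`: the Hilbert polynomial of `c⁻¹` is `(-1)^g Φ(-X)`;
* `deg_lead`: `deg Φ = g` and the leading coefficient is `χ(h)` if `χ(h) ≠ 0`;
* `hasIdx_zero`: an ample class has index `0`.
-/

set_option autoImplicit false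
set_option linter.unusedSectionVars false
universe u

open CategoryTheory CategoryTheory.Limits MonoidalCategory CartesianMonoidalCategory AlgebraicGeometry TopologicalSpace
open scoped MonObj
open Groth.Agent Groth.Agent.Grpsch.PicGrp Groth.Agent.Grpsch.Cube Groth.Agent.Fdesc.LocGen K524.Kun K524.Index K524.Chi K524.Bc
open K506.HilbIdx

attribute [local instance] Functor.grpObjObj

namespace K132.GreenPoly

variable {k : Type u} [Field k] {X : Over (Spec (CommRingCat.of k))}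
  [GrpObj X] [IsProper X.hom] [GeometricallyIntegral X.hom]

theorem chi_cinv {g : ℕ} (hg : topologicalKrullDim X.left = g) (c : Pic X.left) :
    chi (X := X) c⁻¹ = (-1) ^ g * chi (X := X) c := by
  obtain ⟨L, hL, rfl⟩ := exists_mk c
  obtain ⟨M, hM, hM'⟩ := exists_mk (mk L hL)⁻¹
  have h1 : Fga.PicMon.mc L * Fga.PicMon.mc M = 1 := by
    have h2 : mk L hL * mk M hM = 1 := by rw [← hM']; exact mul_inv_cancel _
    rw [mk_mul_mk, mk_eq_one_iff] at h2
    exact (Fga.PicMon.mc_eq_iff _ _).2 h2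
  rw [hM', chi_eq_chi hg, chi_eq_chi hg]
  exact K450.RRChi.chi_inv k X g hg L M hL hM h1

/-- The Hilbert polynomial exists. -/
theorem exists_hilb {g : ℕ} (hg : topologicalKrullDim X.left = g) (c h : Pic X.left) :
    ∃ Φ : Polynomial ℚ, ∀ n : ℕ, Φ.eval (n : ℚ) = (chi (X := X) (c * h ^ n) : ℚ) := by
  obtain ⟨P, hP⟩ := exists_poly hg c h
  let Q : Polynomial ℚ := MvPolynomial.aeval ![Polynomial.C (1 : ℚ), Polynomial.X] P
  have hQ : ∀ t : ℚ, Q.eval t = MvPolynomial.eval ![(1 : ℚ), t] P := by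
    intro t
    rw [← Polynomial.coe_aeval_eq_eval, MvPolynomial.comp_aeval_apply, MvPolynomial.aeval_eq_eval]
    congr 2
    funext i
    fin_cases i <;> simp
  refine ⟨Q, fun n => ?_⟩
  rw [hQ]
  have h1 := hP 1 n
  rw [pow_one, Nat.cast_one] at h1
  exact h1.symm

theorem eval_neg {g : ℕ} (hg : topologicalKrullDim X.left = g) (c h : Pic X.left) (Φ : Polynomial ℚ)
    (hΦ : ∀ n : ℕ, Φ.eval (n : ℚ) = (chi (X := X) (c * h ^ n) : ℚ)) (N : ℕ) :
    (chi (X := X) (c * (h ^ N)⁻¹) : ℚ) = Φ.eval (-(N : ℚ)) := by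
  obtain ⟨Ψ, hΨ⟩ := exists_hilb hg (c * (h ^ N)⁻¹) h
  have key : Ψ.comp (Polynomial.X + Polynomial.C (N : ℚ)) = Φ := by
    refine Polynomial.eq_of_infinite_eval_eq _ _ ?_
    refine (Set.infinite_range_of_injective (f := fun m : ℕ => (m : ℚ)) Nat.cast_injective).mono ?_
    rintro _ ⟨m, rfl⟩
    change Polynomial.eval _ _ = Polynomial.eval _ _
    rw [Polynomial.eval_comp, Polynomial.eval_add, Polynomial.eval_X, Polynomial.eval_C, hΦ]
    have h1 := hΨ (m + N)
    rw [pow_add, show c * (h ^ N)⁻¹ * (h ^ m * h ^ N) = c * h ^ m by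
      rw [mul_comm (h ^ m), mul_assoc, inv_mul_cancel_left]] at h1
    push_cast at h1
    exact h1
  have h2 := hΨ 0
  rw [pow_zero, mul_one, Nat.cast_zero] at h2
  rw [← h2, ← key, Polynomial.eval_comp]
  simp

theorem inv_eq {g : ℕ} (hg : topologicalKrullDim X.left = g) (c h : Pic X.left) (Φ Ψ : Polynomial ℚ)
    (hΦ : ∀ n : ℕ, Φ.eval (n : ℚ) = (chi (X := X) (c * h ^ n) : ℚ))
    (hΨ : ∀ n : ℕ, Ψ.eval (n : ℚ) = (chi (X := X) (c⁻¹ * h ^ n) : ℚ)) :
    Ψ = Polynomial.C ((-1 : ℚ) ^ g) * Φ.comp (-Polynomial.X) := by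
  refine Polynomial.eq_of_infinite_eval_eq _ _ ?_
  refine (Set.infinite_range_of_injective (f := fun m : ℕ => (m : ℚ)) Nat.cast_injective).mono ?_
  rintro _ ⟨m, rfl⟩
  change Polynomial.eval _ _ = Polynomial.eval _ _
  rw [hΨ, Polynomial.eval_mul, Polynomial.eval_C, Polynomial.eval_comp, Polynomial.eval_neg, Polynomial.eval_X,
    ← eval_neg hg c h Φ hΦ m, show c⁻¹ * h ^ m = (c * (h ^ m)⁻¹)⁻¹ by rw [mul_inv, inv_inv], chi_cinv hg]
  push_cast
  rfl

theorem deg_lead {g : ℕ} (hg : topologicalKrullDim X.left = g) (c h : Pic X.left) (hh : chi (X := X) h ≠ 0)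
    (Φ : Polynomial ℚ) (hΦ : ∀ n : ℕ, Φ.eval (n : ℚ) = (chi (X := X) (c * h ^ n) : ℚ)) :
    Φ.natDegree = g ∧ Φ.leadingCoeff = chi (X := X) h := by
  obtain ⟨P, hP⟩ := exists_hilb hg h c
  have h0 : P.eval 0 = chi (X := X) h := by
    have := hP 0
    rwa [pow_zero, mul_one, Nat.cast_zero] at this
  have h1 := GreenNum.deg_lead Φ P g (fun N hN => by
    have h2 := chi_pow_mul hg c h Φ hΦ hN 1
    rw [pow_one, Nat.cast_one, one_div] at h2
    rw [hP N, mul_comm h, h2]) (by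
      rw [h0]
      exact_mod_cast hh)
  rw [h0] at h1
  exact h1

end K132.GreenPoly
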