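import Groth.Agent.AbVar.K132.GreenSheaf

/-!
# Green's vanishing theorem

`sec_eq_zero`: `X` integral and locally of finite type over an algebraically closed field `k`, `L` invertible and
generated by `k`-linearly independent sections `s_j`, `M = ker (O^J → L)`, `G` invertible with at most `r` sections:
every global section of `Λ^r M ⊗ G` vanishes.
-/

set_option autoImplicit false

universe u

open CategoryTheory CategoryTheory.Limits AlgebraicGeometry Opposite TopologicalSpace
open scoped TensorProduct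
open Groth.Agent.Sga67.Sec Groth.Agent.Sga67.LocBasis Groth.Agent.Sga67.ExtSheaf
open Groth.Agent.Sga67.TensorOps Groth.Agent.CurvesB
open Groth.Agent.S18223 (Fr inc prj sum_prj_inc inc_prj_self inc_prj_ne)

namespace K132.GreenVanish

open K132.GreenSheaf

variable {X : Scheme.{u}}

theorem exists_coeff {L : X.Modules} {U : X.Opens} {γ : Sec L U} (hγ : IsLocBasis (fun _ : Fin 1 => γ))
    (s : Sec L U) : ∃ c : Γ(X, U), s = c • γ := by
  obtain ⟨a, ha⟩ := (hγ U le_rfl).2 s
  refine ⟨a 0, ?_⟩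
  rw [← ha, comb_apply, Fin.sum_univ_one, res_self]

theorem coeff_inj {L : X.Modules} {U : X.Opens} {γ : Sec L U} (hγ : IsLocBasis (fun _ : Fin 1 => γ))
    {c c' : Γ(X, U)} (h : c • γ = c' • γ) : c = c' := by
  have h1 : ∀ c : Γ(X, U), comb (fun _ : Fin 1 => γ) le_rfl (fun _ => c) = c • γ := fun c => by
    rw [comb_apply, Fin.sum_univ_one, res_self]
  rw [← h1, ← h1] at h
  exact congr_fun ((hγ U le_rfl).1 h) 0

theorem exists_gen {L : X.Modules} (hL : PicF.IsInvertible L) {x : X} {U : X.Opens} (hx : x ∈ U) :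
    ∃ (V : X.Opens) (_ : V ≤ U) (_ : x ∈ V) (γ : Sec L V), IsLocBasis (fun _ : Fin 1 => γ) := by
  obtain ⟨V, hV, hxV, b, hb⟩ := K698.Basic.exists_basis
    (Groth.Agent.Ega2.QCohLocal.isFinLocFreeOfRank_one_iff.2 hL) hx
  have hb' : b = fun _ : Fin 1 => b 0 := by
    funext i
    rw [Subsingleton.elim i 0]
  exact ⟨V, hV, hxV, b 0, hb' ▸ hb⟩

/-- Good charts. -/
theorem exists_chart {L : X.Modules} (hL : PicF.IsInvertible L) {J : Type u} (ev : Fr X J ⟶ L)
    [Epi ev] {Er G : X.Modules} (hG : PicF.IsInvertible G) (t : Sec (CohB1.tensorMod Er G) ⊤) (x : X) :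
    ∃ U : X.affineOpens, x ∈ U.1 ∧ ∃ (γ : Sec L U.1) (γ' : Sec G U.1) (τ : Sec (Fr X J) U.1) (w : Sec Er U.1),
      IsLocBasis (fun _ : Fin 1 => γ) ∧ IsLocBasis (fun _ : Fin 1 => γ') ∧ appS ev U.1 τ = γ ∧
        tau Er G U.1 (w ⊗ₜ[Γ(X, U.1)] γ') = res _ le_top t := by
  obtain ⟨V1, h1, hx1, γ, hγ⟩ := exists_gen hL (show x ∈ (⊤ : X.Opens) from trivial)
  obtain ⟨V2, h2, hx2, γ', hγ'⟩ := exists_gen hG hx1
  obtain ⟨V3, h3, hx3, τ, hτ⟩ := locally_surjective_of_epi ev (res L h2 γ) x hx2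
  obtain ⟨V4, h4, hx4, T, hT⟩ := tau_locsurj Er G (res _ (le_top : V3 ≤ ⊤) t) x hx3
  obtain ⟨_, ⟨U, rfl⟩, hxU, hU⟩ := Opens.isBasis_iff_nbhd.mp (affineBasis X) hx4
  have hγU : IsLocBasis (fun _ : Fin 1 => res G (hU.trans (h4.trans h3)) γ') := hγ'.restrict _
  have hT' : ∀ T : Sec Er U.1 ⊗[Γ(X, U.1)] Sec G U.1, ∃ w : Sec Er U.1,
      T = w ⊗ₜ[Γ(X, U.1)] (res G (hU.trans (h4.trans h3)) γ') := by
    intro T
    induction T using TensorProduct.induction_on with
    | zero => exact ⟨0, by rw [TensorProduct.zero_tmul]⟩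
    | add a b ha hb =>
      obtain ⟨w, rfl⟩ := ha
      obtain ⟨w', rfl⟩ := hb
      exact ⟨w + w', by rw [TensorProduct.add_tmul]⟩
    | tmul e g =>
      obtain ⟨c, rfl⟩ := exists_coeff hγU g
      exact ⟨c • e, by rw [TensorProduct.smul_tmul]⟩
  obtain ⟨w, hw⟩ := hT' (tres Er G hU T)
  refine ⟨U, hxU, res L (hU.trans (h4.trans (h3.trans h2))) γ, res G (hU.trans (h4.trans h3)) γ',
    res _ (hU.trans h4) τ, w, hγ.restrict _, hγU, ?_, ?_⟩
  · rw [appS_res, hτ, res_res, res_res]
  · rw [← hw, tau_tres, hT, res_res, res_res]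

variable (k : Type u) [Field k] [X.Over (Spec (CommRingCat.of k))]

/-- The structure map of the ring of sections. -/
noncomputable def str (U : X.Opens) : k →+* Γ(X, U) := (resO X le_top).comp (HZero.gl k X)

theorem str_finiteType [LocallyOfFiniteType (X ↘ Spec (CommRingCat.of k))] (U : X.affineOpens) :
    (str k U.1).FiniteType := by
  have h1 := (X ↘ Spec (CommRingCat.of k)).finiteType_appLE (isAffineOpen_top _) U.2
    (show U.1 ≤ (X ↘ Spec (CommRingCat.of k)) ⁻¹ᵁ ⊤ from le_top)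
  have h2 : (Scheme.ΓSpecIso (CommRingCat.of k)).inv.hom.FiniteType :=
    RingHom.FiniteType.of_surjective _
      (ConcreteCategory.bijective_of_isIso (Scheme.ΓSpecIso (CommRingCat.of k)).inv).2
  exact h1.comp h2

theorem str_eq (U : X.Opens) (c : k) : str k U c = resO X le_top (HZero.gl k X c) := rfl

variable {k}

/-- A functional on the kernel with constant coefficients. -/
noncomputable def fnl {J : Type u} [Fintype J] {L : X.Modules} (ev : Fr X J ⟶ L) (l : J → k) :
    kernel ev ⟶ Coh.structureModule X :=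
  kernel.ι ev ≫ ∑ j, prj J j ≫ homUnit (Coh.structureModule X) (HZero.gl k X (l j))

theorem fnl_apply {J : Type u} [Fintype J] {L : X.Modules} (ev : Fr X J ⟶ L) (l : J → k) (U : X.Opens)
    (m : Sec (kernel ev) U) :
    oL U (appS (fnl ev l) U m) = ∑ j, str k U (l j) * kcrd ev U m j := by
  rw [fnl, appS_comp, appS_sum, map_sum]
  refine Finset.sum_congr rfl fun j _ => ?_
  rw [appS_comp]
  have h1 := homUnit_apply (Coh.structureModule X) (HZero.gl k X (l j)) U
    (appS (prj J j) U (appS (kernel.ι ev) U m))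
  refine (congrArg (oL U) h1).trans ?_
  rw [map_smul, smul_eq_mul, mul_comm]
  rfl

/-- The value of the pairing, from a spanning family of sections of `G`. -/
theorem exists_coeffs {r : ℕ} {E Er : X.Modules} {φ : Phi r E Er} (hφ : PhiComp φ)
    (l : Fin r → (E ⟶ Coh.structureModule X)) {G : X.Modules} (b : Fin r → Sec G (⊤ : X.Opens))
    (hb : ∀ s : Sec G (⊤ : X.Opens), ∃ c : Fin r → k, s = ∑ i, HZero.gl k X (c i) • b i)
    (t : Sec (CohB1.tensorMod Er G) (⊤ : X.Opens)) (U : X.affineOpens) {γ' : Sec G U.1}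
    (hγ' : IsLocBasis (fun _ : Fin 1 => γ')) (w : Sec Er U.1)
    (ht : tau Er G U.1 (w ⊗ₜ[Γ(X, U.1)] γ') = res _ le_top t) (β : Fin r → Γ(X, U.1))
    (hβ : ∀ i, res G (le_top : U.1 ≤ ⊤) (b i) = β i • γ') :
    ∃ c : Fin r → k, pr φ l U w = ∑ i, str k U.1 (c i) * β i := by
  obtain ⟨f, hf⟩ := exists_green l hφ G
  obtain ⟨c, hc⟩ := hb (appS f (⊤ : X.Opens) t)
  refine ⟨c, coeff_inj hγ' ?_⟩
  rw [← hf U w γ', ht, appS_res, hc, map_sum, Finset.sum_smul]
  refine Finset.sum_congr rfl fun i _ => ?_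
  rw [res_smul, hβ, smul_smul]
  rfl

variable [IsAlgClosed k] [IsIntegral X] [LocallyOfFiniteType (X ↘ Spec (CommRingCat.of k))]

/-- Green's vanishing theorem. -/
theorem sec_eq_zero {L : X.Modules} (hL : PicF.IsInvertible L) {J : Type u} [Fintype J] (ev : Fr X J ⟶ L)
    [Epi ev]
    (hind : ∀ c : J → k, ∑ j, HZero.gl k X (c j) • appS ev ⊤ (bas X J j ⊤) = 0 → c = 0)
    {r : ℕ} {Er : X.Modules} (hEr : ExtPow.IsExtPow r (kernel ev) Er) {G : X.Modules}
    (hG : PicF.IsInvertible G) (b : Fin r → Sec G ⊤)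
    (hb : ∀ s : Sec G ⊤, ∃ c : Fin r → k, s = ∑ i, HZero.gl k X (c i) • b i)
    (t : Sec (CohB1.tensorMod Er G) ⊤) : t = 0 := by
  obtain ⟨φ, hφ⟩ := exists_phi hEr
  apply eq_of_locally
  intro x _
  obtain ⟨U, hxU, γ, γ', τ, w, hγ, hγ', hτ, ht⟩ := exists_chart hL ev hG t x
  refine ⟨U.1, le_top, hxU, ?_⟩
  rw [map_zero, ← ht]
  suffices hw : w = 0 by rw [hw, TensorProduct.zero_tmul, map_zero]
  apply (φ U).injective
  rw [map_zero]
  choose β hβ using fun i => exists_coeff hγ' (res G (le_top : U.1 ≤ ⊤) (b i))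
  have key := fun l : Fin r → J → k => exists_coeffs hφ (fun i => fnl ev (l i)) b hb t U hγ' w ht β hβ
  -- the k-algebra
  let _ : Algebra k Γ(X, U.1) := (str k U.1).toAlgebra
  have hne : Nonempty U.1 := ⟨⟨x, hxU⟩⟩
  have : IsDomain Γ(X, U.1) := inferInstance
  have : Algebra.FiniteType k Γ(X, U.1) := str_finiteType k U
  -- coordinates of the sections of L
  choose v hv using fun j => exists_coeff hγ (appS ev U.1 (bas X J j U.1))
  have hva : ∑ j, v j * crd J U.1 τ j = 1 := by
    apply coeff_inj hγ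
    rw [_root_.one_smul, Finset.sum_smul]
    conv_rhs => rw [← hτ, sum_crd J U.1 τ, map_sum]
    refine Finset.sum_congr rfl fun j _ => ?_
    rw [map_smul, hv, smul_smul, mul_comm]
  have hlin : LinearIndependent k v := by
    rw [Fintype.linearIndependent_iff]
    intro c hc
    have h1 : ∑ j, HZero.gl k X (c j) • appS ev ⊤ (bas X J j ⊤) = 0 := by
      apply K698.Basic.res_injective (K698.Basic.isFinLocFree_of_rank
        (Groth.Agent.Ega2.QCohLocal.isFinLocFreeOfRank_one_iff.2 hL)) (le_top : U.1 ≤ ⊤) ⟨x, hxU⟩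
      rw [map_zero, map_sum]
      have h2 : ∀ j, res L (le_top : U.1 ≤ ⊤) (HZero.gl k X (c j) • appS ev ⊤ (bas X J j ⊤)) =
          (c j • v j) • γ := by
        intro j
        rw [res_smul, ← appS_res, res_bas, hv, smul_smul, Algebra.smul_def]
        rfl
      rw [Finset.sum_congr rfl fun j _ => h2 j, ← Finset.sum_smul, hc, zero_smul]
    exact fun j => congr_fun (hind c h1) j
  -- coordinates of the sections of G
  have hfd : FiniteDimensional k (Submodule.span k (Set.range β)) :=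
    FiniteDimensional.span_of_finite k (Set.finite_range β)
  obtain ⟨ρ, hρ⟩ := exists_retraction ev hγ v hv (crd J U.1 τ) hva
  have hinj : Function.Injective (exteriorPower.map r (kcrd ev U.1)) := by
    apply Function.LeftInverse.injective (g := exteriorPower.map r ρ)
    intro y
    rw [← LinearMap.comp_apply, ← exteriorPower.map_comp]
    have : ρ ∘ₗ kcrd ev U.1 = LinearMap.id := LinearMap.ext hρ
    rw [this, exteriorPower.map_id]
    rfl
  have hω : ∀ l : Fin r → J → k, exteriorPower.pairingDual Γ(X, U.1) (Sec (kernel ev) U.1) r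
      (exteriorPower.ιMulti Γ(X, U.1) r (fun i => GreenAlg.lf (l i) ∘ₗ kcrd ev U.1)) (φ U w) ∈
        Submodule.span k (Set.range β) := by
    intro l
    obtain ⟨c, h3⟩ := key l
    have h4 : (fun i => GreenAlg.lf (l i) ∘ₗ kcrd ev U.1) = fun i => oL U.1 ∘ₗ appS (fnl ev (l i)) U.1 := by
      funext i
      apply LinearMap.ext
      intro m
      rw [LinearMap.comp_apply, LinearMap.comp_apply, fnl_apply, GreenAlg.lf_apply]
      rfl
    have h5 : exteriorPower.pairingDual Γ(X, U.1) (Sec (kernel ev) U.1) r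
        (exteriorPower.ιMulti Γ(X, U.1) r (fun i => GreenAlg.lf (l i) ∘ₗ kcrd ev U.1)) (φ U w) =
        ∑ i, str k U.1 (c i) * β i :=
      (congrArg (fun F => exteriorPower.pairingDual Γ(X, U.1) (Sec (kernel ev) U.1) r
        (exteriorPower.ιMulti Γ(X, U.1) r F) (φ U w)) h4).trans h3
    rw [h5]
    refine Submodule.sum_mem _ fun i _ => ?_
    have h6 : str k U.1 (c i) * β i = c i • β i := (Algebra.smul_def (c i) (β i)).symm
    rw [h6]
    exact Submodule.smul_mem _ _ (Submodule.subset_span ⟨i, rfl⟩)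
  have hW : Module.finrank k (Submodule.span k (Set.range β)) ≤ r := by
    refine (finrank_range_le_card (R := k) β).trans ?_
    rw [Fintype.card_fin]
  exact GreenAlg.eq_zero v hlin (Submodule.span k (Set.range β)) hW (kcrd ev U.1) hinj
    (kcrd_rel ev hγ v hv) (φ U w) hω

end K132.GreenVanish
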